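import Groth.Agent.WeilLib.Frob
import Mathlib.AlgebraicGeometry.AlgClosed.Basic
import Mathlib.AlgebraicGeometry.Morphisms.Integral
import Mathlib.FieldTheory.IsAlgClosed.Basic
import Mathlib.FieldTheory.Normal.Basic

/-!
# Geometric points of a scheme over a field
-/

set_option backward.isDefEq.respectTransparency false
set_option backward.isDefEq.respectTransparency.types false

universe u

open CategoryTheory AlgebraicGeometry Limits WeilLib

namespace GeoPtLib

variable {k K : Type u} [Field k] [Field K] [Algebra k K]
variable {X : Scheme.{u}} (f : X ⟶ Spec (CommRingCat.of k))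

/-- A point with values in a field factors through the residue field of its image. -/
lemma exists_residue_hom (h : Spec (CommRingCat.of K) ⟶ X) {z : X}
    (hz : h (IsLocalRing.closedPoint K) = z) :
    ∃ ι : X.residueField z ⟶ CommRingCat.of K, h = Spec.map ι ≫ X.fromSpecResidueField z := by
  subst hz
  exact ⟨_, ((Scheme.SpecToEquivOfField K X).left_inv h).symm⟩

lemma resMap_comp_iff (z : X) (ι : X.residueField z ⟶ CommRingCat.of K) :
    (Spec.map ι ≫ X.fromSpecResidueField z) ≫ f = Spec.map (CommRingCat.ofHom (algebraMap k K)) ↔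
      resMap f z ≫ ι = CommRingCat.ofHom (algebraMap k K) := by
  rw [Category.assoc, ← SpecMap_resMap, ← Spec.map_comp, Spec.map_inj]

/-- Two embeddings of a field into an algebraic closure are conjugate. -/
lemma exists_algEquiv_comp [IsAlgClosure k K] {L : Type u} [Field L] [Algebra k L]
    (a b : L →ₐ[k] K) : ∃ σ : K ≃ₐ[k] K, ∀ l, σ (a l) = b l := by
  let φ : a.fieldRange →ₐ[k] K := b.comp (AlgEquiv.ofInjectiveField a).symm.toAlgHom
  let s := φ.liftNormal K
  refine ⟨AlgEquiv.ofBijective s (AlgHom.normal_bijective k K K s), fun l => ?_⟩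
  have h := φ.liftNormal_commutes K ⟨a l, l, rfl⟩
  refine h.trans ?_
  show b ((AlgEquiv.ofInjectiveField a).symm ⟨a l, _⟩) = b l
  congr 1
  exact (AlgEquiv.ofInjectiveField a).symm_apply_apply l

/-- Two `K`-points with the same image differ by an automorphism of `K`. -/
lemma exists_galois [IsAlgClosure k K] (p q : Spec (CommRingCat.of K) ⟶ X)
    (hp : p ≫ f = Spec.map (CommRingCat.ofHom (algebraMap k K)))
    (hq : q ≫ f = Spec.map (CommRingCat.ofHom (algebraMap k K)))
    (h : p (IsLocalRing.closedPoint K) = q (IsLocalRing.closedPoint K)) :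
    ∃ σ : K ≃ₐ[k] K, q = Spec.map (CommRingCat.ofHom σ.toRingHom) ≫ p := by
  obtain ⟨ιp, hιp⟩ := exists_residue_hom p rfl
  obtain ⟨ιq, hιq⟩ := exists_residue_hom q h.symm
  letI := (resMap f (p (IsLocalRing.closedPoint K))).hom.toAlgebra
  let a : X.residueField (p (IsLocalRing.closedPoint K)) →ₐ[k] K :=
    { ιp.hom with
      commutes' := fun r => ConcreteCategory.congr_hom
        ((resMap_comp_iff f _ ιp).1 (hιp ▸ hp)) r }
  let b : X.residueField (p (IsLocalRing.closedPoint K)) →ₐ[k] K :=
    { ιq.hom with
      commutes' := fun r => ConcreteCategory.congr_hom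
        ((resMap_comp_iff f _ ιq).1 (hιq ▸ hq)) r }
  obtain ⟨σ, hσ⟩ := exists_algEquiv_comp a b
  refine ⟨σ, ?_⟩
  have e : ιq = ιp ≫ CommRingCat.ofHom σ.toRingHom := by
    ext l
    exact (hσ l).symm
  conv_lhs => rw [hιq, e, Spec.map_comp, Category.assoc, ← hιp]

/-- The residue field of a closed point is finite over the base field. -/
lemma finite_residueField [LocallyOfFiniteType f] {z : X} (hz : IsClosed ({z} : Set X)) :
    letI := (resMap f z).hom.toAlgebra
    Module.Finite k (X.residueField z) := by
  haveI : JacobsonSpace ↥X := LocallyOfFiniteType.jacobsonSpace f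
  have := isClosed_singleton_iff_isClosedImmersion.1 hz
  have : IsFinite (X.fromSpecResidueField z ≫ f) :=
    isFinite_iff_locallyOfFiniteType_of_jacobsonSpace.2 inferInstance
  rw [← SpecMap_resMap, IsFinite.SpecMap_iff] at this
  exact this

/-- A closed point is the image of a `K`-point. -/
lemma exists_point [LocallyOfFiniteType f] [IsAlgClosed K] {z : X} (hz : IsClosed ({z} : Set X)) :
    ∃ p : Spec (CommRingCat.of K) ⟶ X, p ≫ f = Spec.map (CommRingCat.ofHom (algebraMap k K)) ∧
      p (IsLocalRing.closedPoint K) = z := by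
  letI := (resMap f z).hom.toAlgebra
  haveI := finite_residueField f hz
  let a : X.residueField z →ₐ[k] K := IsAlgClosed.lift
  refine ⟨Spec.map (CommRingCat.ofHom a.toRingHom) ≫ X.fromSpecResidueField z,
    (resMap_comp_iff f z _).2 ?_, ?_⟩
  · ext r
    exact a.commutes r
  · exact X.fromSpecResidueField_apply z _

lemma isIntegralHom_specMap [Algebra.IsIntegral k K] :
    IsIntegralHom (Spec.map (CommRingCat.ofHom (algebraMap k K))) :=
  IsIntegralHom.SpecMap_iff.2 (algebraMap_isIntegral_iff.2 inferInstance)

/-- The image of a point with values in an algebraic closure is closed. -/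
lemma isClosed_image_point [LocallyOfFiniteType f] [IsAlgClosure k K]
    (p : Spec (CommRingCat.of K) ⟶ X) (hp : p ≫ f = Spec.map (CommRingCat.ofHom (algebraMap k K))) :
    IsClosed ({p (IsLocalRing.closedPoint K)} : Set X) := by
  haveI := IsAlgClosure.isAlgClosed k (K := K)
  haveI : Algebra.IsAlgebraic k K := IsAlgClosure.isAlgebraic
  haveI := isIntegralHom_specMap (k := k) (K := K)
  let g := Spec.map (CommRingCat.ofHom (algebraMap k K))
  haveI : LocallyOfFiniteType (pullback.snd f g) :=
    inferInstanceAs (LocallyOfFiniteType (pullback.snd _ _))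
  let s : Spec (CommRingCat.of K) ⟶ pullback f g := pullback.lift p (𝟙 _) (by rw [Category.id_comp, hp])
  have hs : IsClosed ({s (IsLocalRing.closedPoint K)} : Set ↥(pullback f g)) :=
    ((pointEquivClosedPoint (pullback.snd f g)) ⟨s, pullback.lift_snd _ _ _⟩).2
  have := (pullback.fst f g).isClosedMap _ hs
  rwa [Set.image_singleton, ← Scheme.Hom.comp_apply, pullback.lift_fst] at this


section Fibre

variable [IsAlgClosure k K] [LocallyOfFiniteType f]

/-- The structure morphism of the base change to an algebraic closure. -/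
local notation "gg" => Spec.map (CommRingCat.ofHom (algebraMap k K))

lemma locallyOfFiniteType_snd : LocallyOfFiniteType (pullback.snd f gg) :=
  inferInstanceAs (LocallyOfFiniteType (pullback.snd _ _))

lemma isClosedMap_fst : IsClosedMap (pullback.fst f gg) := by
  haveI : Algebra.IsAlgebraic k K := IsAlgClosure.isAlgebraic
  haveI := isIntegralHom_specMap (k := k) (K := K)
  exact (pullback.fst f gg).isClosedMap

omit [IsAlgClosure k K] [LocallyOfFiniteType f] in
lemma surjective_fst : Function.Surjective (pullback.fst f gg) := by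
  haveI : Surjective gg := by
    haveI : Subsingleton (Spec (CommRingCat.of k)) :=
      inferInstanceAs (Subsingleton (PrimeSpectrum k))
    haveI : Nonempty (Spec (CommRingCat.of K)) := ⟨IsLocalRing.closedPoint K⟩
    exact ⟨Function.surjective_to_subsingleton _⟩
  exact (pullback.fst f gg).surjective

/-- The `K`-sections over a closed point are the embeddings of its residue field. -/
lemma sections_bijOn {x : X} (hx : IsClosed ({x} : Set X))
    (hall : ∀ y : ↥(pullback f gg), pullback.fst f gg y = x → IsClosed ({y} : Set ↥(pullback f gg))) :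
    ((pullback.fst f gg) ⁻¹' {x}).Finite ∧
    ((pullback.fst f gg) ⁻¹' {x}).ncard =
      Nat.card {ι : X.residueField x ⟶ CommRingCat.of K //
        resMap f x ≫ ι = CommRingCat.ofHom (algebraMap k K)} := by
  haveI := IsAlgClosure.isAlgClosed k (K := K)
  haveI := locallyOfFiniteType_snd (K := K) f
  let E := {ι : X.residueField x ⟶ CommRingCat.of K //
    resMap f x ≫ ι = CommRingCat.ofHom (algebraMap k K)}
  let sec : E → (Spec (CommRingCat.of K) ⟶ pullback f gg) := fun ι =>
    pullback.lift (Spec.map ι.1 ≫ X.fromSpecResidueField x) (𝟙 _)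
      (by rw [Category.id_comp, (resMap_comp_iff f x ι.1).2 ι.2])
  have hsec : ∀ ι, sec ι ≫ pullback.snd f gg = 𝟙 _ := fun ι => pullback.lift_snd _ _ _
  let e : E → ↥(pullback f gg) := fun ι => sec ι (IsLocalRing.closedPoint K)
  have hinj : Function.Injective e := fun ι ι' h => by
    have h1 : sec ι = sec ι' := congrArg Subtype.val
      ((pointEquivClosedPoint (pullback.snd f gg)).injective
        (a₁ := ⟨sec ι, hsec ι⟩) (a₂ := ⟨sec ι', hsec ι'⟩) (Subtype.ext h))
    have h2 := congrArg (· ≫ pullback.fst f gg) h1
    simp only [sec, pullback.lift_fst] at h2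
    exact Subtype.ext (Spec.map_injective ((cancel_mono _).1 h2))
  have hrange : Set.range e = (pullback.fst f gg) ⁻¹' {x} := by
    refine subset_antisymm ?_ ?_
    · rintro _ ⟨ι, rfl⟩
      show pullback.fst f gg (sec ι (IsLocalRing.closedPoint K)) = x
      rw [← Scheme.Hom.comp_apply, pullback.lift_fst]
      exact X.fromSpecResidueField_apply x _
    · intro y (hy : pullback.fst f gg y = x)
      let s := pointOfClosedPoint (pullback.snd f gg) y (hall y hy)
      have hs : s ≫ pullback.snd f gg = 𝟙 _ := pointOfClosedPoint_comp _ _ _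
      obtain ⟨ι, hι⟩ := exists_residue_hom (s ≫ pullback.fst f gg) (z := x) (by
        rw [Scheme.Hom.comp_apply, pointOfClosedPoint_apply]; exact hy)
      have hov : resMap f x ≫ ι = CommRingCat.ofHom (algebraMap k K) := by
        refine (resMap_comp_iff f x ι).1 ?_
        rw [← hι, Category.assoc, pullback.condition, reassoc_of% hs]
      refine ⟨⟨ι, hov⟩, ?_⟩
      have : sec ⟨ι, hov⟩ = s :=
        pullback.hom_ext (by rw [pullback.lift_fst]; exact hι.symm) (by rw [hsec, hs])
      show sec ⟨ι, hov⟩ (IsLocalRing.closedPoint K) = y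
      rw [this]
      exact pointOfClosedPoint_apply _ _ _ _
  letI := (resMap f x).hom.toAlgebra
  haveI := finite_residueField f hx
  haveI : Finite E := Finite.of_injective
    (fun ι => ({ ι.1.hom with
      commutes' := fun r => ConcreteCategory.congr_hom ι.2 r } : X.residueField x →ₐ[k] K))
    (fun a b h => Subtype.ext (CommRingCat.hom_ext (RingHom.ext fun z => DFunLike.congr_fun h z)))
  refine ⟨hrange ▸ Set.finite_range e, ?_⟩
  rw [← hrange, ← Nat.card_coe_set_eq]
  exact Nat.card_range_of_injective hinj

/-- Over a perfect field there are as many geometric points over a closed point as its degree. -/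
lemma natCard_embeddings [PerfectField k] {x : X} (hx : IsClosed ({x} : Set X)) :
    Nat.card {ι : X.residueField x ⟶ CommRingCat.of K //
      resMap f x ≫ ι = CommRingCat.ofHom (algebraMap k K)} = EGA4loc.residueDegree f x := by
  haveI := IsAlgClosure.isAlgClosed k (K := K)
  letI := (resMap f x).hom.toAlgebra
  haveI := finite_residueField f hx
  rw [residueDegree_eq_finrank]
  let e : {ι : X.residueField x ⟶ CommRingCat.of K //
      resMap f x ≫ ι = CommRingCat.ofHom (algebraMap k K)} ≃ (X.residueField x →ₐ[k] K) :=
    { toFun := fun ι => { ι.1.hom with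
        commutes' := fun r => ConcreteCategory.congr_hom ι.2 r }
      invFun := fun φ => ⟨CommRingCat.ofHom φ.toRingHom,
        CommRingCat.hom_ext (RingHom.ext fun r => φ.commutes r)⟩
      left_inv := fun ι => Subtype.ext rfl
      right_inv := fun φ => AlgHom.ext fun _ => rfl }
  rw [Nat.card_congr e]
  exact AlgHom.natCard_of_splits _ _ _ (fun _ => IsAlgClosed.splits _)

end Fibre

/-- The total weight of the pullback of a finitely supported function. -/
lemma finsum_comp_eq {A B : Type*} (π : A → B) (c n : B → ℕ) (hc : (Function.support c).Finite)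
    (h : ∀ b, c b ≠ 0 → (π ⁻¹' {b}).Finite ∧ (π ⁻¹' {b}).ncard = n b) :
    (Function.support (c ∘ π)).Finite ∧ ∑ᶠ a, c (π a) = ∑ᶠ b, c b * n b := by
  classical
  have hsupp : Function.support (c ∘ π) = ⋃ b ∈ Function.support c, π ⁻¹' {b} := by
    ext a; simp
  have hfin : (Function.support (c ∘ π)).Finite := by
    rw [hsupp]; exact hc.biUnion fun b hb => (h b hb).1
  refine ⟨hfin, ?_⟩
  rw [finsum_eq_sum_of_support_subset (fun a => c (π a)) (s := hfin.toFinset) (fun a ha => by
      rw [Set.Finite.coe_toFinset]; exact ha),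
    finsum_eq_sum_of_support_subset (fun b => c b * n b) (s := hc.toFinset) (fun b hb => by
      rw [Set.Finite.coe_toFinset]; exact left_ne_zero_of_mul hb),
    ← Finset.sum_fiberwise_of_maps_to (g := π) (t := hc.toFinset) (fun a ha => by
      rw [Set.Finite.mem_toFinset] at ha ⊢; exact ha)]
  refine Finset.sum_congr rfl fun b hb => ?_
  rw [Set.Finite.mem_toFinset] at hb
  rw [Finset.sum_congr rfl (fun a ha => by rw [(Finset.mem_filter.1 ha).2] : ∀ a ∈ _,
    c (π a) = c b), Finset.sum_const, smul_eq_mul, mul_comm]
  congr 1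
  rw [← (h b hb).2, ← Set.ncard_coe_finset]
  congr 1
  ext a
  simp only [Finset.coe_filter, Set.Finite.mem_toFinset, Set.mem_ofPred_eq, Set.mem_preimage,
    Set.mem_singleton_iff, Function.mem_support, Function.comp_apply]
  exact ⟨fun h => h.2, fun h => ⟨h.symm ▸ hb, h⟩⟩

end GeoPtLib
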